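import Cfsg.Agent.Lib.Helper28.Fi23x31671.ChkDefs

set_option autoImplicit false
set_option linter.unusedVariables false
set_option Elab.async false

namespace Cfsg.Agent.Lib.Helper28.Fi23x31671

open Cfsg.Spor.Fi23 (Gen)
open Cfsg.Agent.Lib.Helper28.TC

noncomputable section

theorem closedP_blk64 : allRange (guard nn closedP) 8 (64 * 2 ^ 8) = true := by decide +kernel
theorem closedP_blk65 : allRange (guard nn closedP) 8 (65 * 2 ^ 8) = true := by decide +kernel
theorem closedP_blk66 : allRange (guard nn closedP) 8 (66 * 2 ^ 8) = true := by decide +kernel
theorem closedP_blk67 : allRange (guard nn closedP) 8 (67 * 2 ^ 8) = true := by decide +kernel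
theorem closedP_blk68 : allRange (guard nn closedP) 8 (68 * 2 ^ 8) = true := by decide +kernel
theorem closedP_blk69 : allRange (guard nn closedP) 8 (69 * 2 ^ 8) = true := by decide +kernel
theorem closedP_blk70 : allRange (guard nn closedP) 8 (70 * 2 ^ 8) = true := by decide +kernel
theorem closedP_blk71 : allRange (guard nn closedP) 8 (71 * 2 ^ 8) = true := by decide +kernel
theorem closedP_blk72 : allRange (guard nn closedP) 8 (72 * 2 ^ 8) = true := by decide +kernel
theorem closedP_blk73 : allRange (guard nn closedP) 8 (73 * 2 ^ 8) = true := by decide +kernel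
theorem closedP_blk74 : allRange (guard nn closedP) 8 (74 * 2 ^ 8) = true := by decide +kernel
theorem closedP_blk75 : allRange (guard nn closedP) 8 (75 * 2 ^ 8) = true := by decide +kernel
theorem closedP_blk76 : allRange (guard nn closedP) 8 (76 * 2 ^ 8) = true := by decide +kernel
theorem closedP_blk77 : allRange (guard nn closedP) 8 (77 * 2 ^ 8) = true := by decide +kernel
theorem closedP_blk78 : allRange (guard nn closedP) 8 (78 * 2 ^ 8) = true := by decide +kernel
theorem closedP_blk79 : allRange (guard nn closedP) 8 (79 * 2 ^ 8) = true := by decide +kernel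
theorem closedP_blk80 : allRange (guard nn closedP) 8 (80 * 2 ^ 8) = true := by decide +kernel
theorem closedP_blk81 : allRange (guard nn closedP) 8 (81 * 2 ^ 8) = true := by decide +kernel
theorem closedP_blk82 : allRange (guard nn closedP) 8 (82 * 2 ^ 8) = true := by decide +kernel
theorem closedP_blk83 : allRange (guard nn closedP) 8 (83 * 2 ^ 8) = true := by decide +kernel
theorem closedP_blk84 : allRange (guard nn closedP) 8 (84 * 2 ^ 8) = true := by decide +kernel
theorem closedP_blk85 : allRange (guard nn closedP) 8 (85 * 2 ^ 8) = true := by decide +kernel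
theorem closedP_blk86 : allRange (guard nn closedP) 8 (86 * 2 ^ 8) = true := by decide +kernel
theorem closedP_blk87 : allRange (guard nn closedP) 8 (87 * 2 ^ 8) = true := by decide +kernel
theorem closedP_blk88 : allRange (guard nn closedP) 8 (88 * 2 ^ 8) = true := by decide +kernel
theorem closedP_blk89 : allRange (guard nn closedP) 8 (89 * 2 ^ 8) = true := by decide +kernel
theorem closedP_blk90 : allRange (guard nn closedP) 8 (90 * 2 ^ 8) = true := by decide +kernel
theorem closedP_blk91 : allRange (guard nn closedP) 8 (91 * 2 ^ 8) = true := by decide +kernel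
theorem closedP_blk92 : allRange (guard nn closedP) 8 (92 * 2 ^ 8) = true := by decide +kernel
theorem closedP_blk93 : allRange (guard nn closedP) 8 (93 * 2 ^ 8) = true := by decide +kernel
theorem closedP_blk94 : allRange (guard nn closedP) 8 (94 * 2 ^ 8) = true := by decide +kernel
theorem closedP_blk95 : allRange (guard nn closedP) 8 (95 * 2 ^ 8) = true := by decide +kernel
theorem closedP_blk96 : allRange (guard nn closedP) 8 (96 * 2 ^ 8) = true := by decide +kernel
theorem closedP_blk97 : allRange (guard nn closedP) 8 (97 * 2 ^ 8) = true := by decide +kernel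
theorem closedP_blk98 : allRange (guard nn closedP) 8 (98 * 2 ^ 8) = true := by decide +kernel
theorem closedP_blk99 : allRange (guard nn closedP) 8 (99 * 2 ^ 8) = true := by decide +kernel
theorem closedP_blk100 : allRange (guard nn closedP) 8 (100 * 2 ^ 8) = true := by decide +kernel
theorem closedP_blk101 : allRange (guard nn closedP) 8 (101 * 2 ^ 8) = true := by decide +kernel
theorem closedP_blk102 : allRange (guard nn closedP) 8 (102 * 2 ^ 8) = true := by decide +kernel
theorem closedP_blk103 : allRange (guard nn closedP) 8 (103 * 2 ^ 8) = true := by decide +kernel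
theorem closedP_blk104 : allRange (guard nn closedP) 8 (104 * 2 ^ 8) = true := by decide +kernel
theorem closedP_blk105 : allRange (guard nn closedP) 8 (105 * 2 ^ 8) = true := by decide +kernel
theorem closedP_blk106 : allRange (guard nn closedP) 8 (106 * 2 ^ 8) = true := by decide +kernel
theorem closedP_blk107 : allRange (guard nn closedP) 8 (107 * 2 ^ 8) = true := by decide +kernel
theorem closedP_blk108 : allRange (guard nn closedP) 8 (108 * 2 ^ 8) = true := by decide +kernel
theorem closedP_blk109 : allRange (guard nn closedP) 8 (109 * 2 ^ 8) = true := by decide +kernel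
theorem closedP_blk110 : allRange (guard nn closedP) 8 (110 * 2 ^ 8) = true := by decide +kernel
theorem closedP_blk111 : allRange (guard nn closedP) 8 (111 * 2 ^ 8) = true := by decide +kernel
theorem closedP_blk112 : allRange (guard nn closedP) 8 (112 * 2 ^ 8) = true := by decide +kernel
theorem closedP_blk113 : allRange (guard nn closedP) 8 (113 * 2 ^ 8) = true := by decide +kernel
theorem closedP_blk114 : allRange (guard nn closedP) 8 (114 * 2 ^ 8) = true := by decide +kernel
theorem closedP_blk115 : allRange (guard nn closedP) 8 (115 * 2 ^ 8) = true := by decide +kernel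
theorem closedP_blk116 : allRange (guard nn closedP) 8 (116 * 2 ^ 8) = true := by decide +kernel
theorem closedP_blk117 : allRange (guard nn closedP) 8 (117 * 2 ^ 8) = true := by decide +kernel
theorem closedP_blk118 : allRange (guard nn closedP) 8 (118 * 2 ^ 8) = true := by decide +kernel
theorem closedP_blk119 : allRange (guard nn closedP) 8 (119 * 2 ^ 8) = true := by decide +kernel
theorem closedP_blk120 : allRange (guard nn closedP) 8 (120 * 2 ^ 8) = true := by decide +kernel
theorem closedP_blk121 : allRange (guard nn closedP) 8 (121 * 2 ^ 8) = true := by decide +kernel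
theorem closedP_blk122 : allRange (guard nn closedP) 8 (122 * 2 ^ 8) = true := by decide +kernel
theorem closedP_blk123 : allRange (guard nn closedP) 8 (123 * 2 ^ 8) = true := by decide +kernel
theorem closedP_f1 : ∀ k, 64 ≤ k → k < 124 → allRange (guard nn closedP) 8 (k * 2 ^ 8) = true := by
  intro k h1 h2
  interval_cases k
  · exact closedP_blk64
  · exact closedP_blk65
  · exact closedP_blk66
  · exact closedP_blk67
  · exact closedP_blk68
  · exact closedP_blk69
  · exact closedP_blk70
  · exact closedP_blk71
  · exact closedP_blk72
  · exact closedP_blk73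
  · exact closedP_blk74
  · exact closedP_blk75
  · exact closedP_blk76
  · exact closedP_blk77
  · exact closedP_blk78
  · exact closedP_blk79
  · exact closedP_blk80
  · exact closedP_blk81
  · exact closedP_blk82
  · exact closedP_blk83
  · exact closedP_blk84
  · exact closedP_blk85
  · exact closedP_blk86
  · exact closedP_blk87
  · exact closedP_blk88
  · exact closedP_blk89
  · exact closedP_blk90
  · exact closedP_blk91
  · exact closedP_blk92
  · exact closedP_blk93
  · exact closedP_blk94
  · exact closedP_blk95
  · exact closedP_blk96
  · exact closedP_blk97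
  · exact closedP_blk98
  · exact closedP_blk99
  · exact closedP_blk100
  · exact closedP_blk101
  · exact closedP_blk102
  · exact closedP_blk103
  · exact closedP_blk104
  · exact closedP_blk105
  · exact closedP_blk106
  · exact closedP_blk107
  · exact closedP_blk108
  · exact closedP_blk109
  · exact closedP_blk110
  · exact closedP_blk111
  · exact closedP_blk112
  · exact closedP_blk113
  · exact closedP_blk114
  · exact closedP_blk115
  · exact closedP_blk116
  · exact closedP_blk117
  · exact closedP_blk118
  · exact closedP_blk119
  · exact closedP_blk120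
  · exact closedP_blk121
  · exact closedP_blk122
  · exact closedP_blk123

end

end Cfsg.Agent.Lib.Helper28.Fi23x31671
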