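import Cfsg.Agent.Lib.Helper28.Fi23x31671.ChkDefs

set_option autoImplicit false
set_option linter.unusedVariables false
set_option Elab.async false

namespace Cfsg.Agent.Lib.Helper28.Fi23x31671

open Cfsg.Spor.Fi23 (Gen)
open Cfsg.Agent.Lib.Helper28.TC

noncomputable section

theorem factP_blk384 : allRange factP 6 (384 * 2 ^ 6) = true := by decide +kernel
theorem factP_blk385 : allRange factP 6 (385 * 2 ^ 6) = true := by decide +kernel
theorem factP_blk386 : allRange factP 6 (386 * 2 ^ 6) = true := by decide +kernel
theorem factP_blk387 : allRange factP 6 (387 * 2 ^ 6) = true := by decide +kernel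
theorem factP_blk388 : allRange factP 6 (388 * 2 ^ 6) = true := by decide +kernel
theorem factP_blk389 : allRange factP 6 (389 * 2 ^ 6) = true := by decide +kernel
theorem factP_blk390 : allRange factP 6 (390 * 2 ^ 6) = true := by decide +kernel
theorem factP_blk391 : allRange factP 6 (391 * 2 ^ 6) = true := by decide +kernel
theorem factP_blk392 : allRange factP 6 (392 * 2 ^ 6) = true := by decide +kernel
theorem factP_blk393 : allRange factP 6 (393 * 2 ^ 6) = true := by decide +kernel
theorem factP_blk394 : allRange factP 6 (394 * 2 ^ 6) = true := by decide +kernel
theorem factP_blk395 : allRange factP 6 (395 * 2 ^ 6) = true := by decide +kernel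
theorem factP_blk396 : allRange factP 6 (396 * 2 ^ 6) = true := by decide +kernel
theorem factP_blk397 : allRange factP 6 (397 * 2 ^ 6) = true := by decide +kernel
theorem factP_blk398 : allRange factP 6 (398 * 2 ^ 6) = true := by decide +kernel
theorem factP_blk399 : allRange factP 6 (399 * 2 ^ 6) = true := by decide +kernel
theorem factP_blk400 : allRange factP 6 (400 * 2 ^ 6) = true := by decide +kernel
theorem factP_blk401 : allRange factP 6 (401 * 2 ^ 6) = true := by decide +kernel
theorem factP_blk402 : allRange factP 6 (402 * 2 ^ 6) = true := by decide +kernel
theorem factP_blk403 : allRange factP 6 (403 * 2 ^ 6) = true := by decide +kernel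
theorem factP_blk404 : allRange factP 6 (404 * 2 ^ 6) = true := by decide +kernel
theorem factP_blk405 : allRange factP 6 (405 * 2 ^ 6) = true := by decide +kernel
theorem factP_blk406 : allRange factP 6 (406 * 2 ^ 6) = true := by decide +kernel
theorem factP_blk407 : allRange factP 6 (407 * 2 ^ 6) = true := by decide +kernel
theorem factP_blk408 : allRange factP 6 (408 * 2 ^ 6) = true := by decide +kernel
theorem factP_blk409 : allRange factP 6 (409 * 2 ^ 6) = true := by decide +kernel
theorem factP_blk410 : allRange factP 6 (410 * 2 ^ 6) = true := by decide +kernel
theorem factP_blk411 : allRange factP 6 (411 * 2 ^ 6) = true := by decide +kernel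
theorem factP_blk412 : allRange factP 6 (412 * 2 ^ 6) = true := by decide +kernel
theorem factP_blk413 : allRange factP 6 (413 * 2 ^ 6) = true := by decide +kernel
theorem factP_blk414 : allRange factP 6 (414 * 2 ^ 6) = true := by decide +kernel
theorem factP_blk415 : allRange factP 6 (415 * 2 ^ 6) = true := by decide +kernel
theorem factP_blk416 : allRange factP 6 (416 * 2 ^ 6) = true := by decide +kernel
theorem factP_blk417 : allRange factP 6 (417 * 2 ^ 6) = true := by decide +kernel
theorem factP_blk418 : allRange factP 6 (418 * 2 ^ 6) = true := by decide +kernel
theorem factP_blk419 : allRange factP 6 (419 * 2 ^ 6) = true := by decide +kernel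
theorem factP_blk420 : allRange factP 6 (420 * 2 ^ 6) = true := by decide +kernel
theorem factP_blk421 : allRange factP 6 (421 * 2 ^ 6) = true := by decide +kernel
theorem factP_blk422 : allRange factP 6 (422 * 2 ^ 6) = true := by decide +kernel
theorem factP_blk423 : allRange factP 6 (423 * 2 ^ 6) = true := by decide +kernel
theorem factP_blk424 : allRange factP 6 (424 * 2 ^ 6) = true := by decide +kernel
theorem factP_blk425 : allRange factP 6 (425 * 2 ^ 6) = true := by decide +kernel
theorem factP_blk426 : allRange factP 6 (426 * 2 ^ 6) = true := by decide +kernel
theorem factP_blk427 : allRange factP 6 (427 * 2 ^ 6) = true := by decide +kernel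
theorem factP_blk428 : allRange factP 6 (428 * 2 ^ 6) = true := by decide +kernel
theorem factP_blk429 : allRange factP 6 (429 * 2 ^ 6) = true := by decide +kernel
theorem factP_blk430 : allRange factP 6 (430 * 2 ^ 6) = true := by decide +kernel
theorem factP_blk431 : allRange factP 6 (431 * 2 ^ 6) = true := by decide +kernel
theorem factP_blk432 : allRange factP 6 (432 * 2 ^ 6) = true := by decide +kernel
theorem factP_blk433 : allRange factP 6 (433 * 2 ^ 6) = true := by decide +kernel
theorem factP_blk434 : allRange factP 6 (434 * 2 ^ 6) = true := by decide +kernel
theorem factP_blk435 : allRange factP 6 (435 * 2 ^ 6) = true := by decide +kernel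
theorem factP_blk436 : allRange factP 6 (436 * 2 ^ 6) = true := by decide +kernel
theorem factP_blk437 : allRange factP 6 (437 * 2 ^ 6) = true := by decide +kernel
theorem factP_blk438 : allRange factP 6 (438 * 2 ^ 6) = true := by decide +kernel
theorem factP_blk439 : allRange factP 6 (439 * 2 ^ 6) = true := by decide +kernel
theorem factP_blk440 : allRange factP 6 (440 * 2 ^ 6) = true := by decide +kernel
theorem factP_blk441 : allRange factP 6 (441 * 2 ^ 6) = true := by decide +kernel
theorem factP_blk442 : allRange factP 6 (442 * 2 ^ 6) = true := by decide +kernel
theorem factP_blk443 : allRange factP 6 (443 * 2 ^ 6) = true := by decide +kernel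
theorem factP_blk444 : allRange factP 6 (444 * 2 ^ 6) = true := by decide +kernel
theorem factP_blk445 : allRange factP 6 (445 * 2 ^ 6) = true := by decide +kernel
theorem factP_blk446 : allRange factP 6 (446 * 2 ^ 6) = true := by decide +kernel
theorem factP_blk447 : allRange factP 6 (447 * 2 ^ 6) = true := by decide +kernel
theorem factP_blk448 : allRange factP 6 (448 * 2 ^ 6) = true := by decide +kernel
theorem factP_blk449 : allRange factP 6 (449 * 2 ^ 6) = true := by decide +kernel
theorem factP_blk450 : allRange factP 6 (450 * 2 ^ 6) = true := by decide +kernel
theorem factP_blk451 : allRange factP 6 (451 * 2 ^ 6) = true := by decide +kernel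
theorem factP_blk452 : allRange factP 6 (452 * 2 ^ 6) = true := by decide +kernel
theorem factP_blk453 : allRange factP 6 (453 * 2 ^ 6) = true := by decide +kernel
theorem factP_blk454 : allRange factP 6 (454 * 2 ^ 6) = true := by decide +kernel
theorem factP_blk455 : allRange factP 6 (455 * 2 ^ 6) = true := by decide +kernel
theorem factP_blk456 : allRange factP 6 (456 * 2 ^ 6) = true := by decide +kernel
theorem factP_blk457 : allRange factP 6 (457 * 2 ^ 6) = true := by decide +kernel
theorem factP_blk458 : allRange factP 6 (458 * 2 ^ 6) = true := by decide +kernel
theorem factP_blk459 : allRange factP 6 (459 * 2 ^ 6) = true := by decide +kernel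
theorem factP_blk460 : allRange factP 6 (460 * 2 ^ 6) = true := by decide +kernel
theorem factP_blk461 : allRange factP 6 (461 * 2 ^ 6) = true := by decide +kernel
theorem factP_blk462 : allRange factP 6 (462 * 2 ^ 6) = true := by decide +kernel
theorem factP_blk463 : allRange factP 6 (463 * 2 ^ 6) = true := by decide +kernel
theorem factP_blk464 : allRange factP 6 (464 * 2 ^ 6) = true := by decide +kernel
theorem factP_blk465 : allRange factP 6 (465 * 2 ^ 6) = true := by decide +kernel
theorem factP_blk466 : allRange factP 6 (466 * 2 ^ 6) = true := by decide +kernel
theorem factP_blk467 : allRange factP 6 (467 * 2 ^ 6) = true := by decide +kernel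
theorem factP_blk468 : allRange factP 6 (468 * 2 ^ 6) = true := by decide +kernel
theorem factP_blk469 : allRange factP 6 (469 * 2 ^ 6) = true := by decide +kernel
theorem factP_blk470 : allRange factP 6 (470 * 2 ^ 6) = true := by decide +kernel
theorem factP_blk471 : allRange factP 6 (471 * 2 ^ 6) = true := by decide +kernel
theorem factP_blk472 : allRange factP 6 (472 * 2 ^ 6) = true := by decide +kernel
theorem factP_blk473 : allRange factP 6 (473 * 2 ^ 6) = true := by decide +kernel
theorem factP_blk474 : allRange factP 6 (474 * 2 ^ 6) = true := by decide +kernel
theorem factP_blk475 : allRange factP 6 (475 * 2 ^ 6) = true := by decide +kernel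
theorem factP_blk476 : allRange factP 6 (476 * 2 ^ 6) = true := by decide +kernel
theorem factP_blk477 : allRange factP 6 (477 * 2 ^ 6) = true := by decide +kernel
theorem factP_blk478 : allRange factP 6 (478 * 2 ^ 6) = true := by decide +kernel
theorem factP_blk479 : allRange factP 6 (479 * 2 ^ 6) = true := by decide +kernel
theorem factP_f4 : ∀ k, 384 ≤ k → k < 480 → allRange factP 6 (k * 2 ^ 6) = true := by
  intro k h1 h2
  interval_cases k
  · exact factP_blk384
  · exact factP_blk385
  · exact factP_blk386
  · exact factP_blk387
  · exact factP_blk388
  · exact factP_blk389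
  · exact factP_blk390
  · exact factP_blk391
  · exact factP_blk392
  · exact factP_blk393
  · exact factP_blk394
  · exact factP_blk395
  · exact factP_blk396
  · exact factP_blk397
  · exact factP_blk398
  · exact factP_blk399
  · exact factP_blk400
  · exact factP_blk401
  · exact factP_blk402
  · exact factP_blk403
  · exact factP_blk404
  · exact factP_blk405
  · exact factP_blk406
  · exact factP_blk407
  · exact factP_blk408
  · exact factP_blk409
  · exact factP_blk410
  · exact factP_blk411
  · exact factP_blk412
  · exact factP_blk413
  · exact factP_blk414
  · exact factP_blk415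
  · exact factP_blk416
  · exact factP_blk417
  · exact factP_blk418
  · exact factP_blk419
  · exact factP_blk420
  · exact factP_blk421
  · exact factP_blk422
  · exact factP_blk423
  · exact factP_blk424
  · exact factP_blk425
  · exact factP_blk426
  · exact factP_blk427
  · exact factP_blk428
  · exact factP_blk429
  · exact factP_blk430
  · exact factP_blk431
  · exact factP_blk432
  · exact factP_blk433
  · exact factP_blk434
  · exact factP_blk435
  · exact factP_blk436
  · exact factP_blk437
  · exact factP_blk438
  · exact factP_blk439
  · exact factP_blk440
  · exact factP_blk441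
  · exact factP_blk442
  · exact factP_blk443
  · exact factP_blk444
  · exact factP_blk445
  · exact factP_blk446
  · exact factP_blk447
  · exact factP_blk448
  · exact factP_blk449
  · exact factP_blk450
  · exact factP_blk451
  · exact factP_blk452
  · exact factP_blk453
  · exact factP_blk454
  · exact factP_blk455
  · exact factP_blk456
  · exact factP_blk457
  · exact factP_blk458
  · exact factP_blk459
  · exact factP_blk460
  · exact factP_blk461
  · exact factP_blk462
  · exact factP_blk463
  · exact factP_blk464
  · exact factP_blk465
  · exact factP_blk466
  · exact factP_blk467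
  · exact factP_blk468
  · exact factP_blk469
  · exact factP_blk470
  · exact factP_blk471
  · exact factP_blk472
  · exact factP_blk473
  · exact factP_blk474
  · exact factP_blk475
  · exact factP_blk476
  · exact factP_blk477
  · exact factP_blk478
  · exact factP_blk479

end

end Cfsg.Agent.Lib.Helper28.Fi23x31671
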