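import Cfsg.Agent.Lib.Helper28.Fi23x31671.ChkDefs

set_option autoImplicit false
set_option linter.unusedVariables false
set_option Elab.async false

namespace Cfsg.Agent.Lib.Helper28.Fi23x31671

open Cfsg.Spor.Fi23 (Gen)
open Cfsg.Agent.Lib.Helper28.TC

noncomputable section

theorem permP_blk48 : allRange (guard nn permP) 5 (48 * 2 ^ 5) = true := by decide +kernel
theorem permP_blk49 : allRange (guard nn permP) 5 (49 * 2 ^ 5) = true := by decide +kernel
theorem permP_blk50 : allRange (guard nn permP) 5 (50 * 2 ^ 5) = true := by decide +kernel
theorem permP_blk51 : allRange (guard nn permP) 5 (51 * 2 ^ 5) = true := by decide +kernel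
theorem permP_blk52 : allRange (guard nn permP) 5 (52 * 2 ^ 5) = true := by decide +kernel
theorem permP_blk53 : allRange (guard nn permP) 5 (53 * 2 ^ 5) = true := by decide +kernel
theorem permP_blk54 : allRange (guard nn permP) 5 (54 * 2 ^ 5) = true := by decide +kernel
theorem permP_blk55 : allRange (guard nn permP) 5 (55 * 2 ^ 5) = true := by decide +kernel
theorem permP_blk56 : allRange (guard nn permP) 5 (56 * 2 ^ 5) = true := by decide +kernel
theorem permP_blk57 : allRange (guard nn permP) 5 (57 * 2 ^ 5) = true := by decide +kernel
theorem permP_blk58 : allRange (guard nn permP) 5 (58 * 2 ^ 5) = true := by decide +kernel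
theorem permP_blk59 : allRange (guard nn permP) 5 (59 * 2 ^ 5) = true := by decide +kernel
theorem permP_blk60 : allRange (guard nn permP) 5 (60 * 2 ^ 5) = true := by decide +kernel
theorem permP_blk61 : allRange (guard nn permP) 5 (61 * 2 ^ 5) = true := by decide +kernel
theorem permP_blk62 : allRange (guard nn permP) 5 (62 * 2 ^ 5) = true := by decide +kernel
theorem permP_blk63 : allRange (guard nn permP) 5 (63 * 2 ^ 5) = true := by decide +kernel
theorem permP_blk64 : allRange (guard nn permP) 5 (64 * 2 ^ 5) = true := by decide +kernel
theorem permP_blk65 : allRange (guard nn permP) 5 (65 * 2 ^ 5) = true := by decide +kernel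
theorem permP_blk66 : allRange (guard nn permP) 5 (66 * 2 ^ 5) = true := by decide +kernel
theorem permP_blk67 : allRange (guard nn permP) 5 (67 * 2 ^ 5) = true := by decide +kernel
theorem permP_blk68 : allRange (guard nn permP) 5 (68 * 2 ^ 5) = true := by decide +kernel
theorem permP_blk69 : allRange (guard nn permP) 5 (69 * 2 ^ 5) = true := by decide +kernel
theorem permP_blk70 : allRange (guard nn permP) 5 (70 * 2 ^ 5) = true := by decide +kernel
theorem permP_blk71 : allRange (guard nn permP) 5 (71 * 2 ^ 5) = true := by decide +kernel
theorem permP_blk72 : allRange (guard nn permP) 5 (72 * 2 ^ 5) = true := by decide +kernel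
theorem permP_blk73 : allRange (guard nn permP) 5 (73 * 2 ^ 5) = true := by decide +kernel
theorem permP_blk74 : allRange (guard nn permP) 5 (74 * 2 ^ 5) = true := by decide +kernel
theorem permP_blk75 : allRange (guard nn permP) 5 (75 * 2 ^ 5) = true := by decide +kernel
theorem permP_blk76 : allRange (guard nn permP) 5 (76 * 2 ^ 5) = true := by decide +kernel
theorem permP_blk77 : allRange (guard nn permP) 5 (77 * 2 ^ 5) = true := by decide +kernel
theorem permP_blk78 : allRange (guard nn permP) 5 (78 * 2 ^ 5) = true := by decide +kernel
theorem permP_blk79 : allRange (guard nn permP) 5 (79 * 2 ^ 5) = true := by decide +kernel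
theorem permP_blk80 : allRange (guard nn permP) 5 (80 * 2 ^ 5) = true := by decide +kernel
theorem permP_blk81 : allRange (guard nn permP) 5 (81 * 2 ^ 5) = true := by decide +kernel
theorem permP_blk82 : allRange (guard nn permP) 5 (82 * 2 ^ 5) = true := by decide +kernel
theorem permP_blk83 : allRange (guard nn permP) 5 (83 * 2 ^ 5) = true := by decide +kernel
theorem permP_blk84 : allRange (guard nn permP) 5 (84 * 2 ^ 5) = true := by decide +kernel
theorem permP_blk85 : allRange (guard nn permP) 5 (85 * 2 ^ 5) = true := by decide +kernel
theorem permP_blk86 : allRange (guard nn permP) 5 (86 * 2 ^ 5) = true := by decide +kernel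
theorem permP_blk87 : allRange (guard nn permP) 5 (87 * 2 ^ 5) = true := by decide +kernel
theorem permP_blk88 : allRange (guard nn permP) 5 (88 * 2 ^ 5) = true := by decide +kernel
theorem permP_blk89 : allRange (guard nn permP) 5 (89 * 2 ^ 5) = true := by decide +kernel
theorem permP_blk90 : allRange (guard nn permP) 5 (90 * 2 ^ 5) = true := by decide +kernel
theorem permP_blk91 : allRange (guard nn permP) 5 (91 * 2 ^ 5) = true := by decide +kernel
theorem permP_blk92 : allRange (guard nn permP) 5 (92 * 2 ^ 5) = true := by decide +kernel
theorem permP_blk93 : allRange (guard nn permP) 5 (93 * 2 ^ 5) = true := by decide +kernel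
theorem permP_blk94 : allRange (guard nn permP) 5 (94 * 2 ^ 5) = true := by decide +kernel
theorem permP_blk95 : allRange (guard nn permP) 5 (95 * 2 ^ 5) = true := by decide +kernel
theorem permP_f1 : ∀ k, 48 ≤ k → k < 96 → allRange (guard nn permP) 5 (k * 2 ^ 5) = true := by
  intro k h1 h2
  interval_cases k
  · exact permP_blk48
  · exact permP_blk49
  · exact permP_blk50
  · exact permP_blk51
  · exact permP_blk52
  · exact permP_blk53
  · exact permP_blk54
  · exact permP_blk55
  · exact permP_blk56
  · exact permP_blk57
  · exact permP_blk58
  · exact permP_blk59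
  · exact permP_blk60
  · exact permP_blk61
  · exact permP_blk62
  · exact permP_blk63
  · exact permP_blk64
  · exact permP_blk65
  · exact permP_blk66
  · exact permP_blk67
  · exact permP_blk68
  · exact permP_blk69
  · exact permP_blk70
  · exact permP_blk71
  · exact permP_blk72
  · exact permP_blk73
  · exact permP_blk74
  · exact permP_blk75
  · exact permP_blk76
  · exact permP_blk77
  · exact permP_blk78
  · exact permP_blk79
  · exact permP_blk80
  · exact permP_blk81
  · exact permP_blk82
  · exact permP_blk83
  · exact permP_blk84
  · exact permP_blk85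
  · exact permP_blk86
  · exact permP_blk87
  · exact permP_blk88
  · exact permP_blk89
  · exact permP_blk90
  · exact permP_blk91
  · exact permP_blk92
  · exact permP_blk93
  · exact permP_blk94
  · exact permP_blk95

end

end Cfsg.Agent.Lib.Helper28.Fi23x31671
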