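import Cfsg.Agent.Lib.Helper28.Fi23x31671.ChkDefs

set_option autoImplicit false
set_option linter.unusedVariables false
set_option Elab.async false

namespace Cfsg.Agent.Lib.Helper28.Fi23x31671

open Cfsg.Spor.Fi23 (Gen)
open Cfsg.Agent.Lib.Helper28.TC

noncomputable section

theorem permP_blk528 : allRange (guard nn permP) 5 (528 * 2 ^ 5) = true := by decide +kernel
theorem permP_blk529 : allRange (guard nn permP) 5 (529 * 2 ^ 5) = true := by decide +kernel
theorem permP_blk530 : allRange (guard nn permP) 5 (530 * 2 ^ 5) = true := by decide +kernel
theorem permP_blk531 : allRange (guard nn permP) 5 (531 * 2 ^ 5) = true := by decide +kernel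
theorem permP_blk532 : allRange (guard nn permP) 5 (532 * 2 ^ 5) = true := by decide +kernel
theorem permP_blk533 : allRange (guard nn permP) 5 (533 * 2 ^ 5) = true := by decide +kernel
theorem permP_blk534 : allRange (guard nn permP) 5 (534 * 2 ^ 5) = true := by decide +kernel
theorem permP_blk535 : allRange (guard nn permP) 5 (535 * 2 ^ 5) = true := by decide +kernel
theorem permP_blk536 : allRange (guard nn permP) 5 (536 * 2 ^ 5) = true := by decide +kernel
theorem permP_blk537 : allRange (guard nn permP) 5 (537 * 2 ^ 5) = true := by decide +kernel
theorem permP_blk538 : allRange (guard nn permP) 5 (538 * 2 ^ 5) = true := by decide +kernel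
theorem permP_blk539 : allRange (guard nn permP) 5 (539 * 2 ^ 5) = true := by decide +kernel
theorem permP_blk540 : allRange (guard nn permP) 5 (540 * 2 ^ 5) = true := by decide +kernel
theorem permP_blk541 : allRange (guard nn permP) 5 (541 * 2 ^ 5) = true := by decide +kernel
theorem permP_blk542 : allRange (guard nn permP) 5 (542 * 2 ^ 5) = true := by decide +kernel
theorem permP_blk543 : allRange (guard nn permP) 5 (543 * 2 ^ 5) = true := by decide +kernel
theorem permP_blk544 : allRange (guard nn permP) 5 (544 * 2 ^ 5) = true := by decide +kernel
theorem permP_blk545 : allRange (guard nn permP) 5 (545 * 2 ^ 5) = true := by decide +kernel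
theorem permP_blk546 : allRange (guard nn permP) 5 (546 * 2 ^ 5) = true := by decide +kernel
theorem permP_blk547 : allRange (guard nn permP) 5 (547 * 2 ^ 5) = true := by decide +kernel
theorem permP_blk548 : allRange (guard nn permP) 5 (548 * 2 ^ 5) = true := by decide +kernel
theorem permP_blk549 : allRange (guard nn permP) 5 (549 * 2 ^ 5) = true := by decide +kernel
theorem permP_blk550 : allRange (guard nn permP) 5 (550 * 2 ^ 5) = true := by decide +kernel
theorem permP_blk551 : allRange (guard nn permP) 5 (551 * 2 ^ 5) = true := by decide +kernel
theorem permP_blk552 : allRange (guard nn permP) 5 (552 * 2 ^ 5) = true := by decide +kernel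
theorem permP_blk553 : allRange (guard nn permP) 5 (553 * 2 ^ 5) = true := by decide +kernel
theorem permP_blk554 : allRange (guard nn permP) 5 (554 * 2 ^ 5) = true := by decide +kernel
theorem permP_blk555 : allRange (guard nn permP) 5 (555 * 2 ^ 5) = true := by decide +kernel
theorem permP_blk556 : allRange (guard nn permP) 5 (556 * 2 ^ 5) = true := by decide +kernel
theorem permP_blk557 : allRange (guard nn permP) 5 (557 * 2 ^ 5) = true := by decide +kernel
theorem permP_blk558 : allRange (guard nn permP) 5 (558 * 2 ^ 5) = true := by decide +kernel
theorem permP_blk559 : allRange (guard nn permP) 5 (559 * 2 ^ 5) = true := by decide +kernel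
theorem permP_blk560 : allRange (guard nn permP) 5 (560 * 2 ^ 5) = true := by decide +kernel
theorem permP_blk561 : allRange (guard nn permP) 5 (561 * 2 ^ 5) = true := by decide +kernel
theorem permP_blk562 : allRange (guard nn permP) 5 (562 * 2 ^ 5) = true := by decide +kernel
theorem permP_blk563 : allRange (guard nn permP) 5 (563 * 2 ^ 5) = true := by decide +kernel
theorem permP_blk564 : allRange (guard nn permP) 5 (564 * 2 ^ 5) = true := by decide +kernel
theorem permP_blk565 : allRange (guard nn permP) 5 (565 * 2 ^ 5) = true := by decide +kernel
theorem permP_blk566 : allRange (guard nn permP) 5 (566 * 2 ^ 5) = true := by decide +kernel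
theorem permP_blk567 : allRange (guard nn permP) 5 (567 * 2 ^ 5) = true := by decide +kernel
theorem permP_blk568 : allRange (guard nn permP) 5 (568 * 2 ^ 5) = true := by decide +kernel
theorem permP_blk569 : allRange (guard nn permP) 5 (569 * 2 ^ 5) = true := by decide +kernel
theorem permP_blk570 : allRange (guard nn permP) 5 (570 * 2 ^ 5) = true := by decide +kernel
theorem permP_blk571 : allRange (guard nn permP) 5 (571 * 2 ^ 5) = true := by decide +kernel
theorem permP_blk572 : allRange (guard nn permP) 5 (572 * 2 ^ 5) = true := by decide +kernel
theorem permP_blk573 : allRange (guard nn permP) 5 (573 * 2 ^ 5) = true := by decide +kernel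
theorem permP_blk574 : allRange (guard nn permP) 5 (574 * 2 ^ 5) = true := by decide +kernel
theorem permP_blk575 : allRange (guard nn permP) 5 (575 * 2 ^ 5) = true := by decide +kernel
theorem permP_f11 : ∀ k, 528 ≤ k → k < 576 → allRange (guard nn permP) 5 (k * 2 ^ 5) = true := by
  intro k h1 h2
  interval_cases k
  · exact permP_blk528
  · exact permP_blk529
  · exact permP_blk530
  · exact permP_blk531
  · exact permP_blk532
  · exact permP_blk533
  · exact permP_blk534
  · exact permP_blk535
  · exact permP_blk536
  · exact permP_blk537
  · exact permP_blk538
  · exact permP_blk539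
  · exact permP_blk540
  · exact permP_blk541
  · exact permP_blk542
  · exact permP_blk543
  · exact permP_blk544
  · exact permP_blk545
  · exact permP_blk546
  · exact permP_blk547
  · exact permP_blk548
  · exact permP_blk549
  · exact permP_blk550
  · exact permP_blk551
  · exact permP_blk552
  · exact permP_blk553
  · exact permP_blk554
  · exact permP_blk555
  · exact permP_blk556
  · exact permP_blk557
  · exact permP_blk558
  · exact permP_blk559
  · exact permP_blk560
  · exact permP_blk561
  · exact permP_blk562
  · exact permP_blk563
  · exact permP_blk564
  · exact permP_blk565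
  · exact permP_blk566
  · exact permP_blk567
  · exact permP_blk568
  · exact permP_blk569
  · exact permP_blk570
  · exact permP_blk571
  · exact permP_blk572
  · exact permP_blk573
  · exact permP_blk574
  · exact permP_blk575

end

end Cfsg.Agent.Lib.Helper28.Fi23x31671
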