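import Cfsg.Agent.Lib.Helper28.Fi23x31671.ChkDefs

set_option autoImplicit false
set_option linter.unusedVariables false
set_option Elab.async false

namespace Cfsg.Agent.Lib.Helper28.Fi23x31671

open Cfsg.Spor.Fi23 (Gen)
open Cfsg.Agent.Lib.Helper28.TC

noncomputable section

theorem permP_blk576 : allRange (guard nn permP) 5 (576 * 2 ^ 5) = true := by decide +kernel
theorem permP_blk577 : allRange (guard nn permP) 5 (577 * 2 ^ 5) = true := by decide +kernel
theorem permP_blk578 : allRange (guard nn permP) 5 (578 * 2 ^ 5) = true := by decide +kernel
theorem permP_blk579 : allRange (guard nn permP) 5 (579 * 2 ^ 5) = true := by decide +kernel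
theorem permP_blk580 : allRange (guard nn permP) 5 (580 * 2 ^ 5) = true := by decide +kernel
theorem permP_blk581 : allRange (guard nn permP) 5 (581 * 2 ^ 5) = true := by decide +kernel
theorem permP_blk582 : allRange (guard nn permP) 5 (582 * 2 ^ 5) = true := by decide +kernel
theorem permP_blk583 : allRange (guard nn permP) 5 (583 * 2 ^ 5) = true := by decide +kernel
theorem permP_blk584 : allRange (guard nn permP) 5 (584 * 2 ^ 5) = true := by decide +kernel
theorem permP_blk585 : allRange (guard nn permP) 5 (585 * 2 ^ 5) = true := by decide +kernel
theorem permP_blk586 : allRange (guard nn permP) 5 (586 * 2 ^ 5) = true := by decide +kernel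
theorem permP_blk587 : allRange (guard nn permP) 5 (587 * 2 ^ 5) = true := by decide +kernel
theorem permP_blk588 : allRange (guard nn permP) 5 (588 * 2 ^ 5) = true := by decide +kernel
theorem permP_blk589 : allRange (guard nn permP) 5 (589 * 2 ^ 5) = true := by decide +kernel
theorem permP_blk590 : allRange (guard nn permP) 5 (590 * 2 ^ 5) = true := by decide +kernel
theorem permP_blk591 : allRange (guard nn permP) 5 (591 * 2 ^ 5) = true := by decide +kernel
theorem permP_blk592 : allRange (guard nn permP) 5 (592 * 2 ^ 5) = true := by decide +kernel
theorem permP_blk593 : allRange (guard nn permP) 5 (593 * 2 ^ 5) = true := by decide +kernel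
theorem permP_blk594 : allRange (guard nn permP) 5 (594 * 2 ^ 5) = true := by decide +kernel
theorem permP_blk595 : allRange (guard nn permP) 5 (595 * 2 ^ 5) = true := by decide +kernel
theorem permP_blk596 : allRange (guard nn permP) 5 (596 * 2 ^ 5) = true := by decide +kernel
theorem permP_blk597 : allRange (guard nn permP) 5 (597 * 2 ^ 5) = true := by decide +kernel
theorem permP_blk598 : allRange (guard nn permP) 5 (598 * 2 ^ 5) = true := by decide +kernel
theorem permP_blk599 : allRange (guard nn permP) 5 (599 * 2 ^ 5) = true := by decide +kernel
theorem permP_blk600 : allRange (guard nn permP) 5 (600 * 2 ^ 5) = true := by decide +kernel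
theorem permP_blk601 : allRange (guard nn permP) 5 (601 * 2 ^ 5) = true := by decide +kernel
theorem permP_blk602 : allRange (guard nn permP) 5 (602 * 2 ^ 5) = true := by decide +kernel
theorem permP_blk603 : allRange (guard nn permP) 5 (603 * 2 ^ 5) = true := by decide +kernel
theorem permP_blk604 : allRange (guard nn permP) 5 (604 * 2 ^ 5) = true := by decide +kernel
theorem permP_blk605 : allRange (guard nn permP) 5 (605 * 2 ^ 5) = true := by decide +kernel
theorem permP_blk606 : allRange (guard nn permP) 5 (606 * 2 ^ 5) = true := by decide +kernel
theorem permP_blk607 : allRange (guard nn permP) 5 (607 * 2 ^ 5) = true := by decide +kernel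
theorem permP_blk608 : allRange (guard nn permP) 5 (608 * 2 ^ 5) = true := by decide +kernel
theorem permP_blk609 : allRange (guard nn permP) 5 (609 * 2 ^ 5) = true := by decide +kernel
theorem permP_blk610 : allRange (guard nn permP) 5 (610 * 2 ^ 5) = true := by decide +kernel
theorem permP_blk611 : allRange (guard nn permP) 5 (611 * 2 ^ 5) = true := by decide +kernel
theorem permP_blk612 : allRange (guard nn permP) 5 (612 * 2 ^ 5) = true := by decide +kernel
theorem permP_blk613 : allRange (guard nn permP) 5 (613 * 2 ^ 5) = true := by decide +kernel
theorem permP_blk614 : allRange (guard nn permP) 5 (614 * 2 ^ 5) = true := by decide +kernel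
theorem permP_blk615 : allRange (guard nn permP) 5 (615 * 2 ^ 5) = true := by decide +kernel
theorem permP_blk616 : allRange (guard nn permP) 5 (616 * 2 ^ 5) = true := by decide +kernel
theorem permP_blk617 : allRange (guard nn permP) 5 (617 * 2 ^ 5) = true := by decide +kernel
theorem permP_blk618 : allRange (guard nn permP) 5 (618 * 2 ^ 5) = true := by decide +kernel
theorem permP_blk619 : allRange (guard nn permP) 5 (619 * 2 ^ 5) = true := by decide +kernel
theorem permP_blk620 : allRange (guard nn permP) 5 (620 * 2 ^ 5) = true := by decide +kernel
theorem permP_blk621 : allRange (guard nn permP) 5 (621 * 2 ^ 5) = true := by decide +kernel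
theorem permP_blk622 : allRange (guard nn permP) 5 (622 * 2 ^ 5) = true := by decide +kernel
theorem permP_blk623 : allRange (guard nn permP) 5 (623 * 2 ^ 5) = true := by decide +kernel
theorem permP_f12 : ∀ k, 576 ≤ k → k < 624 → allRange (guard nn permP) 5 (k * 2 ^ 5) = true := by
  intro k h1 h2
  interval_cases k
  · exact permP_blk576
  · exact permP_blk577
  · exact permP_blk578
  · exact permP_blk579
  · exact permP_blk580
  · exact permP_blk581
  · exact permP_blk582
  · exact permP_blk583
  · exact permP_blk584
  · exact permP_blk585
  · exact permP_blk586
  · exact permP_blk587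
  · exact permP_blk588
  · exact permP_blk589
  · exact permP_blk590
  · exact permP_blk591
  · exact permP_blk592
  · exact permP_blk593
  · exact permP_blk594
  · exact permP_blk595
  · exact permP_blk596
  · exact permP_blk597
  · exact permP_blk598
  · exact permP_blk599
  · exact permP_blk600
  · exact permP_blk601
  · exact permP_blk602
  · exact permP_blk603
  · exact permP_blk604
  · exact permP_blk605
  · exact permP_blk606
  · exact permP_blk607
  · exact permP_blk608
  · exact permP_blk609
  · exact permP_blk610
  · exact permP_blk611
  · exact permP_blk612
  · exact permP_blk613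
  · exact permP_blk614
  · exact permP_blk615
  · exact permP_blk616
  · exact permP_blk617
  · exact permP_blk618
  · exact permP_blk619
  · exact permP_blk620
  · exact permP_blk621
  · exact permP_blk622
  · exact permP_blk623

end

end Cfsg.Agent.Lib.Helper28.Fi23x31671
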