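import Cfsg.Agent.Lib.Helper28.Fi23x31671.ChkDefs

set_option autoImplicit false
set_option linter.unusedVariables false
set_option Elab.async false

namespace Cfsg.Agent.Lib.Helper28.Fi23x31671

open Cfsg.Spor.Fi23 (Gen)
open Cfsg.Agent.Lib.Helper28.TC

noncomputable section

theorem permP_blk96 : allRange (guard nn permP) 5 (96 * 2 ^ 5) = true := by decide +kernel
theorem permP_blk97 : allRange (guard nn permP) 5 (97 * 2 ^ 5) = true := by decide +kernel
theorem permP_blk98 : allRange (guard nn permP) 5 (98 * 2 ^ 5) = true := by decide +kernel
theorem permP_blk99 : allRange (guard nn permP) 5 (99 * 2 ^ 5) = true := by decide +kernel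
theorem permP_blk100 : allRange (guard nn permP) 5 (100 * 2 ^ 5) = true := by decide +kernel
theorem permP_blk101 : allRange (guard nn permP) 5 (101 * 2 ^ 5) = true := by decide +kernel
theorem permP_blk102 : allRange (guard nn permP) 5 (102 * 2 ^ 5) = true := by decide +kernel
theorem permP_blk103 : allRange (guard nn permP) 5 (103 * 2 ^ 5) = true := by decide +kernel
theorem permP_blk104 : allRange (guard nn permP) 5 (104 * 2 ^ 5) = true := by decide +kernel
theorem permP_blk105 : allRange (guard nn permP) 5 (105 * 2 ^ 5) = true := by decide +kernel
theorem permP_blk106 : allRange (guard nn permP) 5 (106 * 2 ^ 5) = true := by decide +kernel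
theorem permP_blk107 : allRange (guard nn permP) 5 (107 * 2 ^ 5) = true := by decide +kernel
theorem permP_blk108 : allRange (guard nn permP) 5 (108 * 2 ^ 5) = true := by decide +kernel
theorem permP_blk109 : allRange (guard nn permP) 5 (109 * 2 ^ 5) = true := by decide +kernel
theorem permP_blk110 : allRange (guard nn permP) 5 (110 * 2 ^ 5) = true := by decide +kernel
theorem permP_blk111 : allRange (guard nn permP) 5 (111 * 2 ^ 5) = true := by decide +kernel
theorem permP_blk112 : allRange (guard nn permP) 5 (112 * 2 ^ 5) = true := by decide +kernel
theorem permP_blk113 : allRange (guard nn permP) 5 (113 * 2 ^ 5) = true := by decide +kernel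
theorem permP_blk114 : allRange (guard nn permP) 5 (114 * 2 ^ 5) = true := by decide +kernel
theorem permP_blk115 : allRange (guard nn permP) 5 (115 * 2 ^ 5) = true := by decide +kernel
theorem permP_blk116 : allRange (guard nn permP) 5 (116 * 2 ^ 5) = true := by decide +kernel
theorem permP_blk117 : allRange (guard nn permP) 5 (117 * 2 ^ 5) = true := by decide +kernel
theorem permP_blk118 : allRange (guard nn permP) 5 (118 * 2 ^ 5) = true := by decide +kernel
theorem permP_blk119 : allRange (guard nn permP) 5 (119 * 2 ^ 5) = true := by decide +kernel
theorem permP_blk120 : allRange (guard nn permP) 5 (120 * 2 ^ 5) = true := by decide +kernel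
theorem permP_blk121 : allRange (guard nn permP) 5 (121 * 2 ^ 5) = true := by decide +kernel
theorem permP_blk122 : allRange (guard nn permP) 5 (122 * 2 ^ 5) = true := by decide +kernel
theorem permP_blk123 : allRange (guard nn permP) 5 (123 * 2 ^ 5) = true := by decide +kernel
theorem permP_blk124 : allRange (guard nn permP) 5 (124 * 2 ^ 5) = true := by decide +kernel
theorem permP_blk125 : allRange (guard nn permP) 5 (125 * 2 ^ 5) = true := by decide +kernel
theorem permP_blk126 : allRange (guard nn permP) 5 (126 * 2 ^ 5) = true := by decide +kernel
theorem permP_blk127 : allRange (guard nn permP) 5 (127 * 2 ^ 5) = true := by decide +kernel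
theorem permP_blk128 : allRange (guard nn permP) 5 (128 * 2 ^ 5) = true := by decide +kernel
theorem permP_blk129 : allRange (guard nn permP) 5 (129 * 2 ^ 5) = true := by decide +kernel
theorem permP_blk130 : allRange (guard nn permP) 5 (130 * 2 ^ 5) = true := by decide +kernel
theorem permP_blk131 : allRange (guard nn permP) 5 (131 * 2 ^ 5) = true := by decide +kernel
theorem permP_blk132 : allRange (guard nn permP) 5 (132 * 2 ^ 5) = true := by decide +kernel
theorem permP_blk133 : allRange (guard nn permP) 5 (133 * 2 ^ 5) = true := by decide +kernel
theorem permP_blk134 : allRange (guard nn permP) 5 (134 * 2 ^ 5) = true := by decide +kernel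
theorem permP_blk135 : allRange (guard nn permP) 5 (135 * 2 ^ 5) = true := by decide +kernel
theorem permP_blk136 : allRange (guard nn permP) 5 (136 * 2 ^ 5) = true := by decide +kernel
theorem permP_blk137 : allRange (guard nn permP) 5 (137 * 2 ^ 5) = true := by decide +kernel
theorem permP_blk138 : allRange (guard nn permP) 5 (138 * 2 ^ 5) = true := by decide +kernel
theorem permP_blk139 : allRange (guard nn permP) 5 (139 * 2 ^ 5) = true := by decide +kernel
theorem permP_blk140 : allRange (guard nn permP) 5 (140 * 2 ^ 5) = true := by decide +kernel
theorem permP_blk141 : allRange (guard nn permP) 5 (141 * 2 ^ 5) = true := by decide +kernel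
theorem permP_blk142 : allRange (guard nn permP) 5 (142 * 2 ^ 5) = true := by decide +kernel
theorem permP_blk143 : allRange (guard nn permP) 5 (143 * 2 ^ 5) = true := by decide +kernel
theorem permP_f2 : ∀ k, 96 ≤ k → k < 144 → allRange (guard nn permP) 5 (k * 2 ^ 5) = true := by
  intro k h1 h2
  interval_cases k
  · exact permP_blk96
  · exact permP_blk97
  · exact permP_blk98
  · exact permP_blk99
  · exact permP_blk100
  · exact permP_blk101
  · exact permP_blk102
  · exact permP_blk103
  · exact permP_blk104
  · exact permP_blk105
  · exact permP_blk106
  · exact permP_blk107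
  · exact permP_blk108
  · exact permP_blk109
  · exact permP_blk110
  · exact permP_blk111
  · exact permP_blk112
  · exact permP_blk113
  · exact permP_blk114
  · exact permP_blk115
  · exact permP_blk116
  · exact permP_blk117
  · exact permP_blk118
  · exact permP_blk119
  · exact permP_blk120
  · exact permP_blk121
  · exact permP_blk122
  · exact permP_blk123
  · exact permP_blk124
  · exact permP_blk125
  · exact permP_blk126
  · exact permP_blk127
  · exact permP_blk128
  · exact permP_blk129
  · exact permP_blk130
  · exact permP_blk131
  · exact permP_blk132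
  · exact permP_blk133
  · exact permP_blk134
  · exact permP_blk135
  · exact permP_blk136
  · exact permP_blk137
  · exact permP_blk138
  · exact permP_blk139
  · exact permP_blk140
  · exact permP_blk141
  · exact permP_blk142
  · exact permP_blk143

end

end Cfsg.Agent.Lib.Helper28.Fi23x31671
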