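import Cfsg.Agent.Lib.Helper28.Fi23x31671.ChkDefs

set_option autoImplicit false
set_option linter.unusedVariables false
set_option Elab.async false

namespace Cfsg.Agent.Lib.Helper28.Fi23x31671

open Cfsg.Spor.Fi23 (Gen)
open Cfsg.Agent.Lib.Helper28.TC

noncomputable section

theorem permP_blk240 : allRange (guard nn permP) 5 (240 * 2 ^ 5) = true := by decide +kernel
theorem permP_blk241 : allRange (guard nn permP) 5 (241 * 2 ^ 5) = true := by decide +kernel
theorem permP_blk242 : allRange (guard nn permP) 5 (242 * 2 ^ 5) = true := by decide +kernel
theorem permP_blk243 : allRange (guard nn permP) 5 (243 * 2 ^ 5) = true := by decide +kernel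
theorem permP_blk244 : allRange (guard nn permP) 5 (244 * 2 ^ 5) = true := by decide +kernel
theorem permP_blk245 : allRange (guard nn permP) 5 (245 * 2 ^ 5) = true := by decide +kernel
theorem permP_blk246 : allRange (guard nn permP) 5 (246 * 2 ^ 5) = true := by decide +kernel
theorem permP_blk247 : allRange (guard nn permP) 5 (247 * 2 ^ 5) = true := by decide +kernel
theorem permP_blk248 : allRange (guard nn permP) 5 (248 * 2 ^ 5) = true := by decide +kernel
theorem permP_blk249 : allRange (guard nn permP) 5 (249 * 2 ^ 5) = true := by decide +kernel
theorem permP_blk250 : allRange (guard nn permP) 5 (250 * 2 ^ 5) = true := by decide +kernel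
theorem permP_blk251 : allRange (guard nn permP) 5 (251 * 2 ^ 5) = true := by decide +kernel
theorem permP_blk252 : allRange (guard nn permP) 5 (252 * 2 ^ 5) = true := by decide +kernel
theorem permP_blk253 : allRange (guard nn permP) 5 (253 * 2 ^ 5) = true := by decide +kernel
theorem permP_blk254 : allRange (guard nn permP) 5 (254 * 2 ^ 5) = true := by decide +kernel
theorem permP_blk255 : allRange (guard nn permP) 5 (255 * 2 ^ 5) = true := by decide +kernel
theorem permP_blk256 : allRange (guard nn permP) 5 (256 * 2 ^ 5) = true := by decide +kernel
theorem permP_blk257 : allRange (guard nn permP) 5 (257 * 2 ^ 5) = true := by decide +kernel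
theorem permP_blk258 : allRange (guard nn permP) 5 (258 * 2 ^ 5) = true := by decide +kernel
theorem permP_blk259 : allRange (guard nn permP) 5 (259 * 2 ^ 5) = true := by decide +kernel
theorem permP_blk260 : allRange (guard nn permP) 5 (260 * 2 ^ 5) = true := by decide +kernel
theorem permP_blk261 : allRange (guard nn permP) 5 (261 * 2 ^ 5) = true := by decide +kernel
theorem permP_blk262 : allRange (guard nn permP) 5 (262 * 2 ^ 5) = true := by decide +kernel
theorem permP_blk263 : allRange (guard nn permP) 5 (263 * 2 ^ 5) = true := by decide +kernel
theorem permP_blk264 : allRange (guard nn permP) 5 (264 * 2 ^ 5) = true := by decide +kernel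
theorem permP_blk265 : allRange (guard nn permP) 5 (265 * 2 ^ 5) = true := by decide +kernel
theorem permP_blk266 : allRange (guard nn permP) 5 (266 * 2 ^ 5) = true := by decide +kernel
theorem permP_blk267 : allRange (guard nn permP) 5 (267 * 2 ^ 5) = true := by decide +kernel
theorem permP_blk268 : allRange (guard nn permP) 5 (268 * 2 ^ 5) = true := by decide +kernel
theorem permP_blk269 : allRange (guard nn permP) 5 (269 * 2 ^ 5) = true := by decide +kernel
theorem permP_blk270 : allRange (guard nn permP) 5 (270 * 2 ^ 5) = true := by decide +kernel
theorem permP_blk271 : allRange (guard nn permP) 5 (271 * 2 ^ 5) = true := by decide +kernel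
theorem permP_blk272 : allRange (guard nn permP) 5 (272 * 2 ^ 5) = true := by decide +kernel
theorem permP_blk273 : allRange (guard nn permP) 5 (273 * 2 ^ 5) = true := by decide +kernel
theorem permP_blk274 : allRange (guard nn permP) 5 (274 * 2 ^ 5) = true := by decide +kernel
theorem permP_blk275 : allRange (guard nn permP) 5 (275 * 2 ^ 5) = true := by decide +kernel
theorem permP_blk276 : allRange (guard nn permP) 5 (276 * 2 ^ 5) = true := by decide +kernel
theorem permP_blk277 : allRange (guard nn permP) 5 (277 * 2 ^ 5) = true := by decide +kernel
theorem permP_blk278 : allRange (guard nn permP) 5 (278 * 2 ^ 5) = true := by decide +kernel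
theorem permP_blk279 : allRange (guard nn permP) 5 (279 * 2 ^ 5) = true := by decide +kernel
theorem permP_blk280 : allRange (guard nn permP) 5 (280 * 2 ^ 5) = true := by decide +kernel
theorem permP_blk281 : allRange (guard nn permP) 5 (281 * 2 ^ 5) = true := by decide +kernel
theorem permP_blk282 : allRange (guard nn permP) 5 (282 * 2 ^ 5) = true := by decide +kernel
theorem permP_blk283 : allRange (guard nn permP) 5 (283 * 2 ^ 5) = true := by decide +kernel
theorem permP_blk284 : allRange (guard nn permP) 5 (284 * 2 ^ 5) = true := by decide +kernel
theorem permP_blk285 : allRange (guard nn permP) 5 (285 * 2 ^ 5) = true := by decide +kernel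
theorem permP_blk286 : allRange (guard nn permP) 5 (286 * 2 ^ 5) = true := by decide +kernel
theorem permP_blk287 : allRange (guard nn permP) 5 (287 * 2 ^ 5) = true := by decide +kernel
theorem permP_f5 : ∀ k, 240 ≤ k → k < 288 → allRange (guard nn permP) 5 (k * 2 ^ 5) = true := by
  intro k h1 h2
  interval_cases k
  · exact permP_blk240
  · exact permP_blk241
  · exact permP_blk242
  · exact permP_blk243
  · exact permP_blk244
  · exact permP_blk245
  · exact permP_blk246
  · exact permP_blk247
  · exact permP_blk248
  · exact permP_blk249
  · exact permP_blk250
  · exact permP_blk251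
  · exact permP_blk252
  · exact permP_blk253
  · exact permP_blk254
  · exact permP_blk255
  · exact permP_blk256
  · exact permP_blk257
  · exact permP_blk258
  · exact permP_blk259
  · exact permP_blk260
  · exact permP_blk261
  · exact permP_blk262
  · exact permP_blk263
  · exact permP_blk264
  · exact permP_blk265
  · exact permP_blk266
  · exact permP_blk267
  · exact permP_blk268
  · exact permP_blk269
  · exact permP_blk270
  · exact permP_blk271
  · exact permP_blk272
  · exact permP_blk273
  · exact permP_blk274
  · exact permP_blk275
  · exact permP_blk276
  · exact permP_blk277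
  · exact permP_blk278
  · exact permP_blk279
  · exact permP_blk280
  · exact permP_blk281
  · exact permP_blk282
  · exact permP_blk283
  · exact permP_blk284
  · exact permP_blk285
  · exact permP_blk286
  · exact permP_blk287

end

end Cfsg.Agent.Lib.Helper28.Fi23x31671
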