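import Cfsg.Agent.Lib.Helper28.Fi23x31671.ChkDefs

set_option autoImplicit false
set_option linter.unusedVariables false
set_option Elab.async false

namespace Cfsg.Agent.Lib.Helper28.Fi23x31671

open Cfsg.Spor.Fi23 (Gen)
open Cfsg.Agent.Lib.Helper28.TC

noncomputable section

theorem permP_blk432 : allRange (guard nn permP) 5 (432 * 2 ^ 5) = true := by decide +kernel
theorem permP_blk433 : allRange (guard nn permP) 5 (433 * 2 ^ 5) = true := by decide +kernel
theorem permP_blk434 : allRange (guard nn permP) 5 (434 * 2 ^ 5) = true := by decide +kernel
theorem permP_blk435 : allRange (guard nn permP) 5 (435 * 2 ^ 5) = true := by decide +kernel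
theorem permP_blk436 : allRange (guard nn permP) 5 (436 * 2 ^ 5) = true := by decide +kernel
theorem permP_blk437 : allRange (guard nn permP) 5 (437 * 2 ^ 5) = true := by decide +kernel
theorem permP_blk438 : allRange (guard nn permP) 5 (438 * 2 ^ 5) = true := by decide +kernel
theorem permP_blk439 : allRange (guard nn permP) 5 (439 * 2 ^ 5) = true := by decide +kernel
theorem permP_blk440 : allRange (guard nn permP) 5 (440 * 2 ^ 5) = true := by decide +kernel
theorem permP_blk441 : allRange (guard nn permP) 5 (441 * 2 ^ 5) = true := by decide +kernel
theorem permP_blk442 : allRange (guard nn permP) 5 (442 * 2 ^ 5) = true := by decide +kernel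
theorem permP_blk443 : allRange (guard nn permP) 5 (443 * 2 ^ 5) = true := by decide +kernel
theorem permP_blk444 : allRange (guard nn permP) 5 (444 * 2 ^ 5) = true := by decide +kernel
theorem permP_blk445 : allRange (guard nn permP) 5 (445 * 2 ^ 5) = true := by decide +kernel
theorem permP_blk446 : allRange (guard nn permP) 5 (446 * 2 ^ 5) = true := by decide +kernel
theorem permP_blk447 : allRange (guard nn permP) 5 (447 * 2 ^ 5) = true := by decide +kernel
theorem permP_blk448 : allRange (guard nn permP) 5 (448 * 2 ^ 5) = true := by decide +kernel
theorem permP_blk449 : allRange (guard nn permP) 5 (449 * 2 ^ 5) = true := by decide +kernel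
theorem permP_blk450 : allRange (guard nn permP) 5 (450 * 2 ^ 5) = true := by decide +kernel
theorem permP_blk451 : allRange (guard nn permP) 5 (451 * 2 ^ 5) = true := by decide +kernel
theorem permP_blk452 : allRange (guard nn permP) 5 (452 * 2 ^ 5) = true := by decide +kernel
theorem permP_blk453 : allRange (guard nn permP) 5 (453 * 2 ^ 5) = true := by decide +kernel
theorem permP_blk454 : allRange (guard nn permP) 5 (454 * 2 ^ 5) = true := by decide +kernel
theorem permP_blk455 : allRange (guard nn permP) 5 (455 * 2 ^ 5) = true := by decide +kernel
theorem permP_blk456 : allRange (guard nn permP) 5 (456 * 2 ^ 5) = true := by decide +kernel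
theorem permP_blk457 : allRange (guard nn permP) 5 (457 * 2 ^ 5) = true := by decide +kernel
theorem permP_blk458 : allRange (guard nn permP) 5 (458 * 2 ^ 5) = true := by decide +kernel
theorem permP_blk459 : allRange (guard nn permP) 5 (459 * 2 ^ 5) = true := by decide +kernel
theorem permP_blk460 : allRange (guard nn permP) 5 (460 * 2 ^ 5) = true := by decide +kernel
theorem permP_blk461 : allRange (guard nn permP) 5 (461 * 2 ^ 5) = true := by decide +kernel
theorem permP_blk462 : allRange (guard nn permP) 5 (462 * 2 ^ 5) = true := by decide +kernel
theorem permP_blk463 : allRange (guard nn permP) 5 (463 * 2 ^ 5) = true := by decide +kernel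
theorem permP_blk464 : allRange (guard nn permP) 5 (464 * 2 ^ 5) = true := by decide +kernel
theorem permP_blk465 : allRange (guard nn permP) 5 (465 * 2 ^ 5) = true := by decide +kernel
theorem permP_blk466 : allRange (guard nn permP) 5 (466 * 2 ^ 5) = true := by decide +kernel
theorem permP_blk467 : allRange (guard nn permP) 5 (467 * 2 ^ 5) = true := by decide +kernel
theorem permP_blk468 : allRange (guard nn permP) 5 (468 * 2 ^ 5) = true := by decide +kernel
theorem permP_blk469 : allRange (guard nn permP) 5 (469 * 2 ^ 5) = true := by decide +kernel
theorem permP_blk470 : allRange (guard nn permP) 5 (470 * 2 ^ 5) = true := by decide +kernel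
theorem permP_blk471 : allRange (guard nn permP) 5 (471 * 2 ^ 5) = true := by decide +kernel
theorem permP_blk472 : allRange (guard nn permP) 5 (472 * 2 ^ 5) = true := by decide +kernel
theorem permP_blk473 : allRange (guard nn permP) 5 (473 * 2 ^ 5) = true := by decide +kernel
theorem permP_blk474 : allRange (guard nn permP) 5 (474 * 2 ^ 5) = true := by decide +kernel
theorem permP_blk475 : allRange (guard nn permP) 5 (475 * 2 ^ 5) = true := by decide +kernel
theorem permP_blk476 : allRange (guard nn permP) 5 (476 * 2 ^ 5) = true := by decide +kernel
theorem permP_blk477 : allRange (guard nn permP) 5 (477 * 2 ^ 5) = true := by decide +kernel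
theorem permP_blk478 : allRange (guard nn permP) 5 (478 * 2 ^ 5) = true := by decide +kernel
theorem permP_blk479 : allRange (guard nn permP) 5 (479 * 2 ^ 5) = true := by decide +kernel
theorem permP_f9 : ∀ k, 432 ≤ k → k < 480 → allRange (guard nn permP) 5 (k * 2 ^ 5) = true := by
  intro k h1 h2
  interval_cases k
  · exact permP_blk432
  · exact permP_blk433
  · exact permP_blk434
  · exact permP_blk435
  · exact permP_blk436
  · exact permP_blk437
  · exact permP_blk438
  · exact permP_blk439
  · exact permP_blk440
  · exact permP_blk441
  · exact permP_blk442
  · exact permP_blk443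
  · exact permP_blk444
  · exact permP_blk445
  · exact permP_blk446
  · exact permP_blk447
  · exact permP_blk448
  · exact permP_blk449
  · exact permP_blk450
  · exact permP_blk451
  · exact permP_blk452
  · exact permP_blk453
  · exact permP_blk454
  · exact permP_blk455
  · exact permP_blk456
  · exact permP_blk457
  · exact permP_blk458
  · exact permP_blk459
  · exact permP_blk460
  · exact permP_blk461
  · exact permP_blk462
  · exact permP_blk463
  · exact permP_blk464
  · exact permP_blk465
  · exact permP_blk466
  · exact permP_blk467
  · exact permP_blk468
  · exact permP_blk469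
  · exact permP_blk470
  · exact permP_blk471
  · exact permP_blk472
  · exact permP_blk473
  · exact permP_blk474
  · exact permP_blk475
  · exact permP_blk476
  · exact permP_blk477
  · exact permP_blk478
  · exact permP_blk479

end

end Cfsg.Agent.Lib.Helper28.Fi23x31671
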